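import Cfsg.Agent.Lib.Lie.SingerFive.Shape
import Cfsg.Agent.Lib.Classical.LinBasic

/-!
# No transitive affine action on the complements

A group on a four-space, transitive on points and hyperplanes, has no transitive action on `q ^ 4` points in
which every fixed-point-free element of determinant one fixes exactly one point.
-/

set_option autoImplicit false

namespace Cfsg.Agent.Lie.SingerFive

open Module Matrix
open Cfsg.Geo Cfsg.Agent.Classical

universe u w x

variable {F : Type u} [Field F] {W : Type w} [AddCommGroup W] [Module F W]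

/-- The linear equivalence with a given matrix in a basis. -/
noncomputable def toEnd (b : Basis (Fin 4) F W) : GL (Fin 4) F →* (W ≃ₗ[F] W) :=
  ((Units.mapEquiv (LinearMap.toMatrixAlgEquiv b).toMulEquiv).symm.trans
    (LinearMap.GeneralLinearGroup.generalLinearEquiv F W)).toMonoidHom

theorem toEnd_toMatrix (b : Basis (Fin 4) F W) (M : GL (Fin 4) F) :
    LinearMap.toMatrix b b (toEnd b M).toLinearMap = (M : Matrix (Fin 4) (Fin 4) F) :=
  (LinearMap.toMatrixAlgEquiv b).apply_symm_apply (M : Matrix (Fin 4) (Fin 4) F)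

theorem toEnd_equivFun (b : Basis (Fin 4) F W) (M : GL (Fin 4) F) (x : W) :
    b.equivFun (toEnd b M x) = (M : Matrix (Fin 4) (Fin 4) F) *ᵥ b.equivFun x := by
  have h := LinearMap.toMatrix_mulVec_repr b b (toEnd b M).toLinearMap x
  rw [toEnd_toMatrix] at h
  exact h.symm

theorem toEnd_surjective (b : Basis (Fin 4) F W) : Function.Surjective (toEnd b) := fun g =>
  ⟨_, MulEquiv.apply_symm_apply ((Units.mapEquiv (LinearMap.toMatrixAlgEquiv b).toMulEquiv).symm.trans
    (LinearMap.GeneralLinearGroup.generalLinearEquiv F W)) g⟩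

theorem det_toEnd (b : Basis (Fin 4) F W) (M : GL (Fin 4) F) :
    (LinearEquiv.det (toEnd b M) : F) = (M : Matrix (Fin 4) (Fin 4) F).det := by
  rw [LinearEquiv.coe_det, ← LinearMap.det_toMatrix b, toEnd_toMatrix]

theorem toEnd_trans (b : Basis (Fin 4) F W) {i j : Fin 4} (hij : i ≠ j) (c : F) (x : W) :
    toEnd b (transGL hij c) x = x + (c * b.coord j x) • b i := by
  apply b.equivFun.injective
  rw [toEnd_equivFun, transGL_mulVec, map_add, map_smul]
  congr 1
  funext k
  rcases eq_or_ne k i with rfl | h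
  · simp [Basis.equivFun_apply]
  · simp [Basis.equivFun_apply, h, Finsupp.single_eq_of_ne h]

theorem mem_of_inT {L : Subgroup (W ≃ₗ[F] W)} (b : Basis (Fin 4) F W) {i j : Fin 4} (hij : i ≠ j) {c : F}
    (h : InT L (b i) (c • b.coord j)) : toEnd b (transGL hij c) ∈ L := by
  obtain ⟨-, g, hg, hgx⟩ := h
  rwa [show toEnd b (transGL hij c) = g from LinearEquiv.ext fun x => by
    rw [toEnd_trans, hgx, LinearMap.smul_apply, smul_eq_mul]]

/-- A basis adapted to a null polarity. -/
theorem exists_basis [Finite W] {L : Subgroup (W ≃ₗ[F] W)} (hW : finrank F W = 4) (α : W → Dual F W)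
    (hne : ∀ v, v ≠ 0 → α v ≠ 0) (hT : ∀ (v : W) (c : F), InT L v (c • α v))
    (hsymm : ∀ v w, α v w = 0 → α w v = 0) :
    ∃ b : Basis (Fin 4) F W, ∀ c : F, InT L (b 0) (c • b.coord 1) ∧ InT L (b 1) (c • b.coord 0) ∧
      InT L (b 2) (c • b.coord 3) ∧ InT L (b 3) (c • b.coord 2) := by
  have : Module.Finite F W := Module.Finite.of_finite
  have : Nontrivial W := Module.finrank_pos_iff.mp (by omega : 0 < finrank F W)
  have hax : ∀ v, α v v = 0 := fun v => by simpa using (hT v 1).axis
  obtain ⟨v, hv⟩ := exists_ne (0 : W)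
  obtain ⟨u, hu⟩ : ∃ u, α v u ≠ 0 := by
    by_contra hcon
    push Not at hcon
    exact hne v hv (LinearMap.ext hcon)
  have hu' : α u v ≠ 0 := fun e => hu (hsymm _ _ e)
  let π : W → W := fun x => x - (α v x / α v u) • u - (α u x / α u v) • v
  have hπv : ∀ x, α v (π x) = 0 := fun x => by
    simp only [π, map_sub, map_smul, hax, smul_zero, sub_zero, smul_eq_mul]
    field_simp
    ring
  have hπu : ∀ x, α u (π x) = 0 := fun x => by
    simp only [π, map_sub, map_smul, hax, smul_zero, sub_zero, smul_eq_mul]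
    field_simp
    ring
  obtain ⟨v', hv', hv'v, hv'u⟩ : ∃ v', v' ≠ 0 ∧ α v v' = 0 ∧ α u v' = 0 := by
    obtain ⟨x, hx⟩ : ∃ x : W, x ∉ F ∙ u ⊔ F ∙ v := by
      by_contra hcon
      push Not at hcon
      have h1 : (F ∙ u ⊔ F ∙ v : Submodule F W) = ⊤ := eq_top_iff.mpr fun x _ => hcon x
      have h2 := Submodule.finrank_add_le_finrank_add_finrank (F ∙ u) (F ∙ v)
      rw [h1, finrank_top, hW, finrank_span_singleton hv,
        finrank_span_singleton (fun e : u = 0 => hu (by rw [e, map_zero]))] at h2
      omega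
    refine ⟨π x, fun e => hx ?_, hπv x, hπu x⟩
    have e' : x = (α v x / α v u) • u + (α u x / α u v) • v := by
      rw [← sub_eq_zero, ← e]; simp only [π]; abel
    rw [e']
    exact add_mem (Submodule.mem_sup_left (Submodule.smul_mem _ _ (Submodule.mem_span_singleton_self u)))
      (Submodule.mem_sup_right (Submodule.smul_mem _ _ (Submodule.mem_span_singleton_self v)))
  obtain ⟨u', hu'v, hu'u, hv'u'⟩ : ∃ u', α v u' = 0 ∧ α u u' = 0 ∧ α v' u' ≠ 0 := by
    obtain ⟨x, hx⟩ : ∃ x, α v' x ≠ 0 := by
      by_contra hcon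
      push Not at hcon
      exact hne v' hv' (LinearMap.ext hcon)
    refine ⟨π x, hπv x, hπu x, ?_⟩
    simp only [π, map_sub, map_smul, hsymm _ _ hv'v, hsymm _ _ hv'u, smul_zero, sub_zero]
    exact hx
  have hu'v' : α u' v' ≠ 0 := fun e => hv'u' (hsymm _ _ e)
  let B : Fin 4 → W := ![v, u, v', u']
  let ξ : Fin 4 → Dual F W := ![(α u v)⁻¹ • α u, (α v u)⁻¹ • α v, (α u' v')⁻¹ • α u', (α v' u')⁻¹ • α v']
  have hdual : ∀ i j, ξ i (B j) = if i = j then 1 else 0 := by
    intro i j
    fin_cases i <;> fin_cases j <;>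
      simp [ξ, B, hax, hu, hu', hv'v, hv'u, hu'v, hu'u, hv'u', hu'v', hsymm _ _ hv'v, hsymm _ _ hv'u,
        hsymm _ _ hu'v, hsymm _ _ hu'u]
  have hlin : LinearIndependent F B := by
    rw [Fintype.linearIndependent_iff]
    intro g hg i
    have := congrArg (ξ i) hg
    simpa [hdual] using this
  let b := basisOfLinearIndependentOfCardEqFinrank hlin (by rw [hW, Fintype.card_fin])
  have hb : ∀ i, b i = B i := fun i => by simp [b]
  have hcoord : ∀ i, b.coord i = ξ i := fun i => b.ext fun j => by
    rw [hb, hdual, Basis.coord_apply, ← hb, b.repr_self, Finsupp.single_apply]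
    simp only [eq_comm]
  refine ⟨b, fun c => ?_⟩
  simp only [hb, hcoord]
  simp only [ξ, B, Matrix.cons_val_zero, Matrix.cons_val_one, Matrix.cons_val, smul_smul]
  exact ⟨hT _ _, hT _ _, hT _ _, hT _ _⟩

/-- The element `T₀₁ T₁₀ T₂₃ T₃₂` in characteristic two. -/
def rr (F : Type u) [Field F] : GL (Fin 4) F :=
  transGL (show (0 : Fin 4) ≠ 1 by decide) 1 * transGL (show (1 : Fin 4) ≠ 0 by decide) 1 *
    (transGL (show (2 : Fin 4) ≠ 3 by decide) 1 * transGL (show (3 : Fin 4) ≠ 2 by decide) 1)

/-- The element `T₀₁ T₁₀ (T₂₃ T₃₂)⁻¹` in characteristic two. -/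
def rr' (F : Type u) [Field F] : GL (Fin 4) F :=
  transGL (show (0 : Fin 4) ≠ 1 by decide) 1 * transGL (show (1 : Fin 4) ≠ 0 by decide) 1 *
    (transGL (show (3 : Fin 4) ≠ 2 by decide) 1 * transGL (show (2 : Fin 4) ≠ 3 by decide) 1)

/-- Minus the identity as a product of transvections. -/
def negOne (F : Type u) [Field F] : GL (Fin 4) F :=
  (transGL (show (0 : Fin 4) ≠ 1 by decide) 1 * transGL (show (1 : Fin 4) ≠ 0 by decide) (-1) *
      transGL (show (0 : Fin 4) ≠ 1 by decide) 1) ^ 2 *
    (transGL (show (2 : Fin 4) ≠ 3 by decide) 1 * transGL (show (3 : Fin 4) ≠ 2 by decide) (-1) *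
      transGL (show (2 : Fin 4) ≠ 3 by decide) 1) ^ 2

theorem negOne_mulVec (v : Fin 4 → F) : (negOne F : Matrix (Fin 4) (Fin 4) F) *ᵥ v = -v := by
  simp only [negOne, pow_two, Units.val_mul, ← Matrix.mulVec_mulVec, transGL_mulVec]
  funext k
  fin_cases k <;> simp [Pi.single_apply] <;> ring

theorem rr_fpf [CharP F 2] (v : Fin 4 → F) (h : (rr F : Matrix (Fin 4) (Fin 4) F) *ᵥ v = v) : v = 0 := by
  simp only [rr, Units.val_mul, ← Matrix.mulVec_mulVec, transGL_mulVec] at h
  have h0 := congrFun h 0
  have h1 := congrFun h 1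
  have h2 := congrFun h 2
  have h3 := congrFun h 3
  simp [Pi.single_apply] at h0 h1 h2 h3
  have e : (2 : F) = 0 := CharTwo.two_eq_zero
  funext k
  fin_cases k <;> simp <;> grind

theorem rr'_fpf [CharP F 2] (v : Fin 4 → F) (h : (rr' F : Matrix (Fin 4) (Fin 4) F) *ᵥ v = v) : v = 0 := by
  simp only [rr', Units.val_mul, ← Matrix.mulVec_mulVec, transGL_mulVec] at h
  have h0 := congrFun h 0
  have h1 := congrFun h 1
  have h2 := congrFun h 2
  have h3 := congrFun h 3
  simp [Pi.single_apply] at h0 h1 h2 h3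
  have e : (2 : F) = 0 := CharTwo.two_eq_zero
  funext k
  fin_cases k <;> simp <;> grind

variable {C : Type x}

/-- The commutator relation of root elements, as an equation. -/
theorem transGL_step {i j k : Fin 4} (hij : i ≠ j) (hjk : j ≠ k) (hik : i ≠ k) (c d : F) :
    transGL hij c * transGL hjk d = transGL hik (c * d) * (transGL hjk d * transGL hij c) := by
  have h := congrArg (SpecialLinearGroup.toGL) (sl_transvection_commutator (F := F) hik hij hjk c d)
  rw [map_commutatorElement, commutatorElement_def] at h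
  have e : transGL hij c * transGL hjk d * (transGL hij c)⁻¹ * (transGL hjk d)⁻¹ = transGL hik (c * d) := h
  rw [← e]
  group

/-- An element normalising a cyclic group with a unique fixed point fixes that point. -/
theorem fix_of_conj {G : Type w} [Group G] [MulAction G C] {g y x : G} {c : C} (hgc : g • c = c)
    (huniq : ∀ d, g • d = d → d = c) (hy : y • c = c) (hconj : g * x = x * y) : x • c = c :=
  huniq _ (by rw [smul_smul, hconj, ← smul_smul, hy])

set_option maxHeartbeats 1000000 in
-- long explicit matrix computations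
/-- No transitive action of `L` on `q ^ 4` points where fixed-point-free elements fix exactly one. -/
theorem no_affine_orbit [Fintype F] [Finite W] (hW : finrank F W = 4) (L : Subgroup (W ≃ₗ[F] W))
    (hpt : ∀ v w : W, v ≠ 0 → w ≠ 0 → ∃ g ∈ L, ∃ c : F, c ≠ 0 ∧ g v = c • w)
    (hhyp : ∀ φ ψ : Dual F W, φ ≠ 0 → ψ ≠ 0 → ∃ g ∈ L, ∃ c : F, c ≠ 0 ∧ φ.comp g.toLinearMap = c • ψ)
    [MulAction L C] [Finite C] [MulAction.IsPretransitive L C] (hC : Nat.card C = Fintype.card F ^ 4)
    (hfix : ∀ g : L, LinearEquiv.det (g : W ≃ₗ[F] W) = 1 → (∀ w, (g : W ≃ₗ[F] W) w = w → w = 0) →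
      ∃! c : C, g • c = c) : False := by
  classical
  have hq : 2 ≤ Fintype.card F := Fintype.one_lt_card
  have hC1 : 1 < Nat.card C := hC ▸ Nat.one_lt_pow (by norm_num) (by omega)
  obtain ⟨c₁⟩ : Nonempty C := Finite.card_pos_iff.mp (by omega)
  have hindex : (MulAction.stabilizer L c₁).index = Fintype.card F ^ 4 := by
    rw [MulAction.index_stabilizer_of_transitive, hC]
  have hshape := shape hW (hindex ▸ Subgroup.index_dvd_card (MulAction.stabilizer L c₁)) hpt hhyp
  obtain ⟨b, hb⟩ : ∃ b : Basis (Fin 4) F W, ∀ c : F, InT L (b 0) (c • b.coord 1) ∧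
      InT L (b 1) (c • b.coord 0) ∧ InT L (b 2) (c • b.coord 3) ∧ InT L (b 3) (c • b.coord 2) := by
    rcases hshape with hall | ⟨α, hne, hT, hsymm, -⟩
    · let b := Module.finBasisOfFinrankEq F W hW
      exact ⟨b, fun c => ⟨hall _ _ (by simp), hall _ _ (by simp), hall _ _ (by simp), hall _ _ (by simp)⟩⟩
    · exact exists_basis hW α hne hT hsymm
  have h01 : ∀ c, toEnd b (transGL (show (0 : Fin 4) ≠ 1 by decide) c) ∈ L := fun c => mem_of_inT b _ (hb c).1
  have h10 : ∀ c, toEnd b (transGL (show (1 : Fin 4) ≠ 0 by decide) c) ∈ L := fun c => mem_of_inT b _ (hb c).2.1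
  have h23 : ∀ c, toEnd b (transGL (show (2 : Fin 4) ≠ 3 by decide) c) ∈ L := fun c => mem_of_inT b _ (hb c).2.2.1
  have h32 : ∀ c, toEnd b (transGL (show (3 : Fin 4) ≠ 2 by decide) c) ∈ L := fun c => mem_of_inT b _ (hb c).2.2.2
  let K := L.comap (toEnd b)
  let act : K →* L := (toEnd b).subgroupComap L
  have hdetK : ∀ M : GL (Fin 4) F, (M : Matrix (Fin 4) (Fin 4) F).det = 1 → LinearEquiv.det (toEnd b M) = 1 :=
    fun M hM => Units.ext (by rw [det_toEnd, hM, Units.val_one])
  have hfp : ∀ M : GL (Fin 4) F, (∀ v, (M : Matrix (Fin 4) (Fin 4) F) *ᵥ v = v → v = 0) →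
      ∀ w, toEnd b M w = w → w = 0 := fun M hM w hw => by
    have := hM (b.equivFun w) (by rw [← toEnd_equivFun, hw])
    exact b.equivFun.map_eq_zero_iff.mp this
  have hK : ∀ {i j : Fin 4} (hij : i ≠ j) (c : F), toEnd b (transGL hij c) ∈ L → transGL hij c ∈ K :=
    fun _ _ h => h
  rcases Nat.even_or_odd (Fintype.card F) with hev | hodd
  swap
  · -- odd order: minus the identity is central
    have h2 : (2 : F) ≠ 0 := by
      intro e
      have hdvd : 2 ∣ Fintype.card F := by
        obtain ⟨p, hchar⟩ := CharP.exists F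
        obtain ⟨m, hp, hm⟩ := FiniteField.card F p
        have hp2 : p = 2 := (Nat.prime_dvd_prime_iff_eq hp Nat.prime_two).mp
          ((CharP.cast_eq_zero_iff F p 2).mp (by exact_mod_cast e))
        rw [hm, hp2]
        exact dvd_pow_self 2 (PNat.ne_zero m)
      exact Nat.not_even_iff_odd.mpr hodd (even_iff_two_dvd.mpr hdvd)
    have hmem : toEnd b (negOne F) ∈ L := by
      simp only [negOne, map_mul, map_pow]
      exact mul_mem (pow_mem (mul_mem (mul_mem (h01 1) (h10 (-1))) (h01 1)) 2)
        (pow_mem (mul_mem (mul_mem (h23 1) (h32 (-1))) (h23 1)) 2)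
    have hneg : ∀ w, toEnd b (negOne F) w = -w := fun w => b.equivFun.injective (by
      rw [toEnd_equivFun, negOne_mulVec, map_neg])
    have hdet : (negOne F : GL (Fin 4) F) ∈ specialLinear (Fin 4) F := by
      refine mul_mem (pow_mem (mul_mem (mul_mem ?_ ?_) ?_) 2) (pow_mem (mul_mem (mul_mem ?_ ?_) ?_) 2) <;>
        exact transGL_mem _ _
    obtain ⟨c₀, hc₀, huniq⟩ := hfix ⟨_, hmem⟩ (hdetK _ (mem_specialLinear_iff.mp hdet))
      (hfp _ fun v hv => by
        rw [negOne_mulVec] at hv
        funext k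
        have := congrFun hv k
        simp only [Pi.neg_apply] at this
        have h3 : (2 : F) * v k = 0 := by linear_combination -this
        exact (mul_eq_zero.mp h3).resolve_left h2)
    have hall : ∀ g : L, g • c₀ = c₀ := fun g => fix_of_conj hc₀ huniq hc₀ (Subtype.ext (LinearEquiv.ext fun w => by
      show toEnd b (negOne F) ((g : W ≃ₗ[F] W) w) = (g : W ≃ₗ[F] W) (toEnd b (negOne F) w)
      rw [hneg, hneg, map_neg]))
    have : Subsingleton C := ⟨fun x y => by
      obtain ⟨g, rfl⟩ := MulAction.exists_smul_eq L c₀ x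
      obtain ⟨g', rfl⟩ := MulAction.exists_smul_eq L c₀ y
      rw [hall, hall]⟩
    exact absurd hC1 (not_lt.mpr (Finite.card_le_one_iff_subsingleton.mpr this))
  · -- even order
    obtain ⟨p, hchar⟩ := CharP.exists F
    obtain ⟨m, hp, hm⟩ := FiniteField.card F p
    obtain rfl : p = 2 := ((Nat.prime_dvd_prime_iff_eq Nat.prime_two hp).mp
      (Nat.prime_two.dvd_of_dvd_pow (hm ▸ even_iff_two_dvd.mp hev))).symm
    let t01 : GL (Fin 4) F := transGL (show (0 : Fin 4) ≠ 1 by decide) 1
    let t10 : GL (Fin 4) F := transGL (show (1 : Fin 4) ≠ 0 by decide) 1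
    let t23 : GL (Fin 4) F := transGL (show (2 : Fin 4) ≠ 3 by decide) 1
    let t32 : GL (Fin 4) F := transGL (show (3 : Fin 4) ≠ 2 by decide) 1
    have m01 : t01 ∈ K := h01 1
    have m10 : t10 ∈ K := h10 1
    have m23 : t23 ∈ K := h23 1
    have m32 : t32 ∈ K := h32 1
    have mrr : rr F ∈ K := mul_mem (mul_mem m01 m10) (mul_mem m23 m32)
    have mrr' : rr' F ∈ K := mul_mem (mul_mem m01 m10) (mul_mem m32 m23)
    have dsl : ∀ i j : Fin 4, ∀ h : i ≠ j, transGL h (1 : F) ∈ specialLinear (Fin 4) F := fun i j h => transGL_mem h 1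
    have drr : rr F ∈ specialLinear (Fin 4) F := mul_mem (mul_mem (dsl _ _ _) (dsl _ _ _)) (mul_mem (dsl _ _ _) (dsl _ _ _))
    have drr' : rr' F ∈ specialLinear (Fin 4) F := mul_mem (mul_mem (dsl _ _ _) (dsl _ _ _)) (mul_mem (dsl _ _ _) (dsl _ _ _))
    obtain ⟨c₀, hc₀, huniq⟩ := hfix (act ⟨_, mrr⟩) (hdetK _ (mem_specialLinear_iff.mp drr)) (hfp _ rr_fpf)
    have h2 : (2 : F) = 0 := CharTwo.two_eq_zero
    have e1 : rr F * rr' F = rr' F * rr F := by
      refine gl_ext_mulVec fun v => ?_
      simp only [rr, rr', Units.val_mul, ← Matrix.mulVec_mulVec, transGL_mulVec]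
      funext k
      fin_cases k <;> simp [Pi.single_apply] <;> grind
    have hc₀' : act ⟨_, mrr'⟩ • c₀ = c₀ :=
      fix_of_conj hc₀ huniq hc₀ ((map_mul act _ _).symm.trans ((congrArg act (Subtype.ext e1)).trans (map_mul act _ _)))
    obtain ⟨c', hc', huniq'⟩ := hfix (act ⟨_, mrr'⟩) (hdetK _ (mem_specialLinear_iff.mp drr')) (hfp _ rr'_fpf)
    have hcc : c' = c₀ := (huniq' c₀ hc₀').symm
    subst hcc
    -- an element of `K` conjugating `rr'` into a power of `rr` fixes the point
    have hstab : ∀ (x : GL (Fin 4) F) (hx : x ∈ K) (y : GL (Fin 4) F) (hy : y ∈ K),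
        rr' F * x = x * y → act ⟨y, hy⟩ • c' = c' → act ⟨x, hx⟩ • c' = c' := fun x hx y hy he hyc =>
      fix_of_conj hc' huniq' hyc ((map_mul act _ _).symm.trans ((congrArg act (Subtype.ext he)).trans (map_mul act _ _)))
    have hinv : ∀ {g : GL (Fin 4) F} (hg : g ∈ K), act ⟨g, hg⟩ • c' = c' → act ⟨g⁻¹, inv_mem hg⟩ • c' = c' := by
      intro g hg h
      rw [show (⟨g⁻¹, inv_mem hg⟩ : K) = (⟨g, hg⟩ : K)⁻¹ from rfl, map_inv, inv_smul_eq_iff, h]
    have hT01 : act ⟨t01, m01⟩ • c' = c' := by
      refine hstab t01 m01 _ (inv_mem mrr) ?_ (hinv mrr hc₀)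
      rw [eq_mul_inv_iff_mul_eq]
      refine gl_ext_mulVec fun v => ?_
      simp only [rr, rr', t01, Units.val_mul, ← Matrix.mulVec_mulVec, transGL_mulVec]
      funext k
      fin_cases k <;> simp [Pi.single_apply] <;> grind
    rcases hshape with hall | ⟨α, -, -, -, hexact⟩
    · -- all transvections: the special linear group fixes the point
      have hKall : ∀ (i j : Fin 4) (h : i ≠ j) (c : F), transGL h c ∈ K := fun i j h c =>
        mem_of_inT b h (hall _ _ (by simp [h.symm]))
      let S : Subgroup (GL (Fin 4) F) := ((MulAction.stabilizer L c').comap act).map K.subtype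
      have hS : ∀ {g : GL (Fin 4) F}, g ∈ S ↔ ∃ hg : g ∈ K, act ⟨g, hg⟩ • c' = c' := by
        intro g
        constructor
        · rintro ⟨⟨g, hg⟩, h, rfl⟩; exact ⟨hg, h⟩
        · rintro ⟨hg, h⟩; exact ⟨⟨g, hg⟩, h, rfl⟩
      have s01 : t01 ∈ S := hS.mpr ⟨m01, hT01⟩
      have s10 : t10 ∈ S := by
        refine hS.mpr ⟨m10, hstab t10 m10 _ (inv_mem mrr) ?_ (hinv mrr hc₀)⟩
        rw [eq_mul_inv_iff_mul_eq]
        refine gl_ext_mulVec fun v => ?_
        simp only [rr, rr', t10, Units.val_mul, ← Matrix.mulVec_mulVec, transGL_mulVec]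
        funext k
        fin_cases k <;> simp [Pi.single_apply] <;> grind
      have s23 : t23 ∈ S := by
        refine hS.mpr ⟨m23, hstab t23 m23 _ mrr ?_ hc₀⟩
        refine gl_ext_mulVec fun v => ?_
        simp only [rr, rr', t23, Units.val_mul, ← Matrix.mulVec_mulVec, transGL_mulVec]
        funext k
        fin_cases k <;> simp [Pi.single_apply] <;> grind
      have s32 : t32 ∈ S := by
        refine hS.mpr ⟨m32, hstab t32 m32 _ mrr ?_ hc₀⟩
        refine gl_ext_mulVec fun v => ?_
        simp only [rr, rr', t32, Units.val_mul, ← Matrix.mulVec_mulVec, transGL_mulVec]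
        funext k
        fin_cases k <;> simp [Pi.single_apply] <;> grind
      let E : ∀ (i j : Fin 4), i ≠ j → F → GL (Fin 4) F := fun i j h c => transGL h c
      have hblock : ∀ c : F, E 0 2 (by decide) c * E 1 3 (by decide) c ∈ S ∧
          E 2 0 (by decide) c * E 3 1 (by decide) c ∈ S := by
        intro c
        constructor <;> refine hS.mpr ⟨mul_mem (hKall _ _ _ _) (hKall _ _ _ _),
          fix_of_conj hc₀ huniq hc₀ ((map_mul act _ _).symm.trans
            ((congrArg act (Subtype.ext ?_)).trans (map_mul act _ _)))⟩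
        all_goals
          refine gl_ext_mulVec fun v => ?_
          simp only [rr, E, Subgroup.coe_mul, Units.val_mul, ← Matrix.mulVec_mulVec, transGL_mulVec]
          funext k
          fin_cases k <;> simp [Pi.single_apply] <;> grind
      have hcomm : ∀ {x y z : GL (Fin 4) F}, x ∈ S → y ∈ S → x * y = z * (y * x) → z ∈ S := fun {x y z} hx hy h => by
        rw [show z = x * y * (y * x)⁻¹ by rw [h, mul_inv_cancel_right]]
        exact mul_mem (mul_mem hx hy) (inv_mem (mul_mem hy hx))
      have s03 : ∀ c, E 0 3 (by decide) c ∈ S := fun c => hcomm s01 (hblock c).1 (gl_ext_mulVec fun v => by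
        simp only [E, t01, Units.val_mul, ← Matrix.mulVec_mulVec, transGL_mulVec]
        funext k; fin_cases k <;> simp [Pi.single_apply] <;> grind)
      have s12 : ∀ c, E 1 2 (by decide) c ∈ S := fun c => hcomm s10 (hblock c).1 (gl_ext_mulVec fun v => by
        simp only [E, t10, Units.val_mul, ← Matrix.mulVec_mulVec, transGL_mulVec]
        funext k; fin_cases k <;> simp [Pi.single_apply] <;> grind)
      have s21 : ∀ c, E 2 1 (by decide) c ∈ S := fun c => hcomm (hblock c).2 s01 (gl_ext_mulVec fun v => by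
        simp only [E, t01, Units.val_mul, ← Matrix.mulVec_mulVec, transGL_mulVec]
        funext k; fin_cases k <;> simp [Pi.single_apply] <;> grind)
      have s30 : ∀ c, E 3 0 (by decide) c ∈ S := fun c => hcomm (hblock c).2 s10 (gl_ext_mulVec fun v => by
        simp only [E, t10, Units.val_mul, ← Matrix.mulVec_mulVec, transGL_mulVec]
        funext k; fin_cases k <;> simp [Pi.single_apply] <;> grind)
      have step : ∀ {i j k : Fin 4} (hij : i ≠ j) (hjk : j ≠ k) (hik : i ≠ k) {c d : F},
          E i j hij c ∈ S → E j k hjk d ∈ S → E i k hik (c * d) ∈ S := by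
        intro i j k hij hjk hik c d hx hy
        exact hcomm hx hy (transGL_step hij hjk hik c d)
      have s02 : ∀ c, E 0 2 (by decide) c ∈ S := fun c => by
        simpa using step (j := 3) (by decide) (by decide) (by decide : (0 : Fin 4) ≠ 2) (s03 c) s32
      have s13 : ∀ c, E 1 3 (by decide) c ∈ S := fun c => by
        simpa using step (j := 2) (by decide) (by decide) (by decide : (1 : Fin 4) ≠ 3) (s12 c) s23
      have s20 : ∀ c, E 2 0 (by decide) c ∈ S := fun c => by
        simpa using step (j := 1) (by decide) (by decide) (by decide : (2 : Fin 4) ≠ 0) (s21 c) s10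
      have s31 : ∀ c, E 3 1 (by decide) c ∈ S := fun c => by
        simpa using step (j := 0) (by decide) (by decide) (by decide : (3 : Fin 4) ≠ 1) (s30 c) s01
      have r01 : ∀ c, E 0 1 (by decide) c ∈ S := fun c => by
        simpa using step (j := 2) (by decide) (by decide) (by decide : (0 : Fin 4) ≠ 1) (s02 c) (s21 1)
      have r10 : ∀ c, E 1 0 (by decide) c ∈ S := fun c => by
        simpa using step (j := 2) (by decide) (by decide) (by decide : (1 : Fin 4) ≠ 0) (s12 c) (s20 1)
      have r23 : ∀ c, E 2 3 (by decide) c ∈ S := fun c => by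
        simpa using step (j := 1) (by decide) (by decide) (by decide : (2 : Fin 4) ≠ 3) (s21 c) (s13 1)
      have r32 : ∀ c, E 3 2 (by decide) c ∈ S := fun c => by
        simpa using step (j := 1) (by decide) (by decide) (by decide : (3 : Fin 4) ≠ 2) (s31 c) (s12 1)
      have hSL : specialLinear (Fin 4) F ≤ S := (specialLinear_le_iff S).mpr fun i j h c => by
        fin_cases i <;> fin_cases j <;>
          first
          | exact absurd rfl h
          | exact r01 c | exact s02 c | exact s03 c | exact r10 c | exact s12 c | exact s13 c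
          | exact s20 c | exact s21 c | exact r23 c | exact s30 c | exact s31 c | exact r32 c
      have hfixall : ∀ g : L, g • c' = c' := by
        intro g
        obtain ⟨M, hM⟩ := toEnd_surjective b g
        have hMK : M ∈ K := show toEnd b M ∈ L from hM ▸ g.2
        have hg : g = act ⟨M, hMK⟩ := Subtype.ext hM.symm
        have hconj : M⁻¹ * rr' F * M ∈ specialLinear (Fin 4) F := by
          rw [mem_specialLinear_iff, Units.val_mul, Units.val_mul, Matrix.det_mul, Matrix.det_mul,
            mem_specialLinear_iff.mp drr', mul_one, ← Matrix.det_mul, ← Units.val_mul, inv_mul_cancel,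
            Units.val_one, Matrix.det_one]
        obtain ⟨hy, hyc⟩ := hS.mp (hSL hconj)
        rw [hg]
        exact hstab M hMK _ hy (by group) hyc
      have : Subsingleton C := ⟨fun x y => by
        obtain ⟨g, rfl⟩ := MulAction.exists_smul_eq L c' x
        obtain ⟨g', rfl⟩ := MulAction.exists_smul_eq L c' y
        rw [hfixall, hfixall]⟩
      exact absurd hC1 (not_lt.mpr (Finite.card_le_one_iff_subsingleton.mpr this))
    · -- an involution in a stabiliser of odd order
      refine hexact 2 Nat.prime_two hchar ?_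
      have hindex' : (MulAction.stabilizer L c').index = Fintype.card F ^ 4 := by
        rw [MulAction.index_stabilizer_of_transitive, hC]
      rw [← (MulAction.stabilizer L c').card_mul_index, hindex']
      refine Nat.mul_dvd_mul_right ?_ _
      have hord : orderOf (⟨act ⟨t01, m01⟩, hT01⟩ : MulAction.stabilizer L c') = 2 := by
        refine orderOf_eq_prime (Subtype.ext ?_) fun e => ?_
        · rw [SubmonoidClass.coe_pow, OneMemClass.coe_one, ← map_pow, show ((⟨t01, m01⟩ : K) ^ 2) = 1 from ?_,
            map_one]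
          refine Subtype.ext ?_
          rw [SubmonoidClass.coe_pow, OneMemClass.coe_one]
          show t01 ^ 2 = 1
          rw [pow_two]
          refine gl_ext_mulVec fun v => ?_
          rw [Units.val_mul, Units.val_one, Matrix.one_mulVec, ← Matrix.mulVec_mulVec, transGL_mulVec, transGL_mulVec]
          funext k
          fin_cases k <;> simp [Pi.single_apply, add_assoc, CharTwo.add_self_eq_zero]
        · have h1 : toEnd b t01 = 1 := congrArg (fun z : MulAction.stabilizer L c' => ((z : L) : W ≃ₗ[F] W)) e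
          have h3 : toEnd b t01 (b 1) = b 1 := by rw [h1]; rfl
          rw [toEnd_trans, add_eq_left] at h3
          simp at h3
          exact b.ne_zero 0 h3
      rw [← hord]
      exact orderOf_dvd_natCard _

end Cfsg.Agent.Lie.SingerFive
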