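import Cfsg.Agent.Lib.Lie.SingerFive.Transv

/-!
# Linear groups on a four-space of order divisible by `q ^ 4`, transitive on points and on hyperplanes

Such a group contains all transvections, or preserves a null polarity and contains all its transvections.
-/

set_option autoImplicit false

namespace Cfsg.Agent.Lie.SingerFive

open Module

universe u w

variable {F : Type u} [Field F] [Fintype F] {W : Type w} [AddCommGroup W] [Module F W] [Finite W]
  {L : Subgroup (W ≃ₗ[F] W)}

instance finite_linearEquiv {U : Type w} [AddCommGroup U] [Module F U] [Finite U] : Finite (U ≃ₗ[F] U) :=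
  Finite.of_injective _ DFunLike.coe_injective

theorem gl_p_part {p : ℕ} (hp : p.Prime) [CharP F p] {U : Type w} [AddCommGroup U] [Module F U] [Finite U]
    (hU : finrank F U = 3) {a : ℕ} (h : p ^ a ∣ Nat.card (U ≃ₗ[F] U)) :
    p ^ a ∣ Fintype.card F ^ 3 := by
  let e : (U ≃ₗ[F] U) ≃ GL (Fin 3) F :=
    ((LinearMap.GeneralLinearGroup.generalLinearEquiv F U).symm.trans
      (Units.mapEquiv (LinearMap.toMatrixAlgEquiv (Module.finBasisOfFinrankEq F U hU)).toMulEquiv)).toEquiv
  rw [Nat.card_congr e, Matrix.card_GL_field, Fin.prod_univ_three] at h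
  simp only [Fin.val_zero, Fin.val_one, Fin.val_two, pow_zero, pow_one] at h
  have hq : 2 ≤ Fintype.card F := Fintype.one_lt_card
  obtain ⟨m, -, hm⟩ := FiniteField.card F p
  set q := Fintype.card F with hqdef
  obtain ⟨r, hr⟩ : ∃ r, q = r + 1 := ⟨q - 1, by omega⟩
  have e1 : q ^ 3 - q = q * (q ^ 2 - 1) := by rw [Nat.mul_sub, mul_one, ← pow_succ']
  have e2 : q ^ 3 - q ^ 2 = q ^ 2 * (q - 1) := by rw [Nat.mul_sub, mul_one, ← pow_succ]
  rw [e1, e2] at h
  have h' : p ^ a ∣ q ^ 3 * ((q ^ 3 - 1) * ((q ^ 2 - 1) * (q - 1))) := by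
    convert h using 1; ring
  have hpq : p ∣ q := hm ▸ dvd_pow_self p (PNat.ne_zero m)
  have hco : ∀ k, 1 ≤ k → ¬ p ∣ q ^ k - 1 := by
    intro k hk hdvd
    have h1 : p ∣ q ^ k := dvd_trans hpq (dvd_pow_self q (by omega))
    have h2 : 1 ≤ q ^ k := Nat.one_le_pow _ _ (by omega)
    have := Nat.dvd_sub h1 hdvd
    rw [Nat.sub_sub_self h2] at this
    exact hp.not_dvd_one this
  have hc : Nat.Coprime (p ^ a) ((q ^ 3 - 1) * ((q ^ 2 - 1) * (q - 1))) := by
    refine Nat.Coprime.pow_left _ (hp.coprime_iff_not_dvd.mpr fun hdvd => ?_)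
    rcases hp.dvd_mul.mp hdvd with h3 | h3
    · exact hco 3 (by omega) h3
    · rcases hp.dvd_mul.mp h3 with h4 | h4
      · exact hco 2 (by omega) h4
      · exact hco 1 le_rfl (by rwa [pow_one])
  exact hc.dvd_of_dvd_mul_right h'

/-- A `p`-subgroup fixing a vector has order at most `q ^ 3` times the transvections centred there. -/
theorem sylow_bound {p : ℕ} [hp : Fact p.Prime] [CharP F p] (hW : finrank F W = 4) :
    ∃ v : W, v ≠ 0 ∧ ∀ P : Sylow p L, ∃ v' : W, v' ≠ 0 ∧
      Nat.card P ≤ Fintype.card F ^ 3 * Nat.card {φ : Dual F W // InT L v' φ} := by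
  classical
  have : Nontrivial W := Module.finrank_pos_iff.mp (by omega : 0 < finrank F W)
  obtain ⟨v₀, hv₀⟩ := exists_ne (0 : W)
  refine ⟨v₀, hv₀, fun P => ?_⟩
  have : Finite (Dual F W) := Module.finite_of_finite F
  have hdvd : p ∣ Nat.card W := by
    rw [Module.natCard_eq_pow_finrank (K := F), hW, Nat.card_eq_fintype_card]
    obtain ⟨m, -, hm⟩ := FiniteField.card F p
    rw [hm]
    exact dvd_pow (dvd_pow_self p (PNat.ne_zero m)) (by norm_num)
  obtain ⟨v, hvfix, hv⟩ := P.isPGroup'.exists_fixed_point_of_prime_dvd_card_of_fixed_point W hdvd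
    (a := 0) (fun g => map_zero ((g : L) : W ≃ₗ[F] W))
  have hv0 : v ≠ 0 := fun e => hv e.symm
  refine ⟨v, hv0, ?_⟩
  let S := F ∙ v
  have hfix : ∀ g : P, ((g : L) : W ≃ₗ[F] W) v = v := fun g => hvfix g
  have hmap : ∀ g : P, S.map (((g : L) : W ≃ₗ[F] W) : W →ₗ[F] W) = S := fun g => by
    rw [Submodule.map_span, Set.image_singleton]
    simp only [LinearEquiv.coe_coe]
    rw [hfix g]
  let f : P →* ((W ⧸ S) ≃ₗ[F] (W ⧸ S)) :=
    { toFun := fun g => Submodule.Quotient.equiv S S ((g : L) : W ≃ₗ[F] W) (hmap g)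
      map_one' := LinearEquiv.ext fun x => by
        induction x using Submodule.Quotient.induction_on with
        | _ x => rfl
      map_mul' := fun g h => LinearEquiv.ext fun x => by
        induction x using Submodule.Quotient.induction_on with
        | _ x => rfl }
  obtain ⟨ξ, hξ⟩ : ∃ ξ : Dual F W, ξ v = 1 := by
    obtain ⟨ξ, hξ⟩ := Projective.exists_dual_ne_zero F hv0
    exact ⟨(ξ v)⁻¹ • ξ, by simp [hξ]⟩
  have hker : ∀ g : f.ker, ∃ φ : Dual F W, InT L v φ ∧
      ∀ x, (((g : P) : L) : W ≃ₗ[F] W) x = x + φ x • v := by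
    intro g
    obtain ⟨t, ht⟩ : ∃ t : W ≃ₗ[F] W, (((g : P) : L) : W ≃ₗ[F] W) = t := ⟨_, rfl⟩
    let φ : Dual F W := ξ.comp (t.toLinearMap - LinearMap.id)
    have hx : ∀ x, t x = x + φ x • v := by
      intro x
      have h1 : (f g) (Submodule.Quotient.mk x) = Submodule.Quotient.mk x := by
        rw [MonoidHom.mem_ker.mp g.2]; rfl
      have h2 : t x - x ∈ S := by
        rw [← ht]
        exact (Submodule.Quotient.eq S).mp h1
      obtain ⟨c, hc⟩ := Submodule.mem_span_singleton.mp h2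
      have : φ x = c := by
        show ξ (t x - x) = c
        rw [← hc, map_smul, hξ, smul_eq_mul, mul_one]
      rw [this, hc]; abel
    refine ⟨φ, ⟨?_, t, ht ▸ ((g : P) : L).2, hx⟩, fun x => by rw [ht]; exact hx x⟩
    show ξ (t v - v) = 0
    rw [← ht, hfix, sub_self, map_zero]
  choose φ hφ hφx using hker
  have h1 : Nat.card f.ker ≤ Nat.card {φ : Dual F W // InT L v φ} :=
    Nat.card_le_card_of_injective (fun g => ⟨φ g, hφ g⟩) fun g g' h => by
      have h' : φ g = φ g' := congrArg Subtype.val h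
      exact Subtype.ext (Subtype.ext (Subtype.ext (LinearEquiv.ext fun x => by rw [hφx, hφx, h'])))
  have : Finite (W ⧸ S) := Finite.of_surjective _ S.mkQ_surjective
  have hU : finrank F (W ⧸ S) = 3 := by
    have := Submodule.finrank_quotient_add_finrank S
    rw [hW, finrank_span_singleton hv0] at this
    omega
  have h2 : Nat.card f.range ≤ Fintype.card F ^ 3 := by
    obtain ⟨a, ha⟩ := IsPGroup.iff_card.mp (P.isPGroup'.of_surjective f.rangeRestrict f.rangeRestrict_surjective)
    have hdvd : Nat.card f.range ∣ Nat.card ((W ⧸ S) ≃ₗ[F] (W ⧸ S)) := Subgroup.card_subgroup_dvd_card _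
    rw [ha] at hdvd ⊢
    exact Nat.le_of_dvd (pow_pos Fintype.card_pos _) (gl_p_part hp.out hU hdvd)
  have h3 : Nat.card P = Nat.card f.range * Nat.card f.ker := by
    rw [Subgroup.card_eq_card_quotient_mul_card_subgroup f.ker,
      Nat.card_congr (QuotientGroup.quotientKerEquivRange f).toEquiv]
  rw [h3]
  exact Nat.mul_le_mul h2 h1

/-- The two shapes of `L`. -/
theorem shape (hW : finrank F W = 4) (hdiv : Fintype.card F ^ 4 ∣ Nat.card L)
    (hpt : ∀ v w : W, v ≠ 0 → w ≠ 0 → ∃ g ∈ L, ∃ c : F, c ≠ 0 ∧ g v = c • w)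
    (hhyp : ∀ φ ψ : Dual F W, φ ≠ 0 → ψ ≠ 0 → ∃ g ∈ L, ∃ c : F, c ≠ 0 ∧ φ.comp g.toLinearMap = c • ψ) :
    (∀ (v : W) (φ : Dual F W), φ v = 0 → InT L v φ) ∨
    (∃ α : W → Dual F W, (∀ v, v ≠ 0 → α v ≠ 0) ∧ (∀ (v : W) (c : F), InT L v (c • α v)) ∧
      (∀ v w, α v w = 0 → α w v = 0) ∧
      ∀ p : ℕ, p.Prime → CharP F p → ¬ p * Fintype.card F ^ 4 ∣ Nat.card L) := by
  classical
  obtain ⟨p, hchar⟩ := CharP.exists F
  have hp : p.Prime := CharP.char_is_prime F p
  have := Fact.mk hp
  have : Finite (Dual F W) := Module.finite_of_finite F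
  let _ : Fintype (Dual F W) := Fintype.ofFinite _
  let _ : Fintype W := Fintype.ofFinite _
  set q := Fintype.card F with hqdef
  have hq : 2 ≤ q := Fintype.one_lt_card
  obtain ⟨m, -, hm⟩ := FiniteField.card F p
  rw [← hqdef] at hm
  obtain ⟨v₀, hv₀, hbound⟩ := sylow_bound (L := L) (p := p) hW
  let D : W → Type _ := fun v => {φ : Dual F W // InT L v φ}
  let E : W → Submodule F (Dual F W) := fun v => Submodule.span F {φ | InT L v φ}
  -- transport along `L`
  have hmove : ∀ v w : W, v ≠ 0 → w ≠ 0 → ∃ T : Dual F W ≃ₗ[F] Dual F W,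
      ∀ φ, InT L v φ → InT L w (T φ) := by
    intro v w hv hw
    obtain ⟨g, hg, c, hc, hgc⟩ := hpt v w hv hw
    refine ⟨g.symm.dualMap.trans (LinearEquiv.smulOfUnit (Units.mk0 c hc)), fun φ hφ => ?_⟩
    have h := hφ.conj hg
    rw [hgc, inT_smul hc] at h
    exact h
  have hcard : ∀ v w : W, v ≠ 0 → w ≠ 0 → Nat.card (D v) ≤ Nat.card (D w) := by
    intro v w hv hw
    obtain ⟨T, hT⟩ := hmove v w hv hw
    exact Nat.card_le_card_of_injective (fun φ : D v => (⟨T φ.1, hT _ φ.2⟩ : D w))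
      fun a b h => Subtype.ext (T.injective (congrArg Subtype.val h))
  have hrank : ∀ v w : W, v ≠ 0 → w ≠ 0 → finrank F (E v) ≤ finrank F (E w) := by
    intro v w hv hw
    obtain ⟨T, hT⟩ := hmove v w hv hw
    have hle : (E v).map (T : Dual F W →ₗ[F] Dual F W) ≤ E w := by
      rw [Submodule.map_span]
      exact Submodule.span_mono (by rintro _ ⟨φ, hφ, rfl⟩; exact hT φ hφ)
    calc finrank F (E v) = finrank F ((E v).map (T : Dual F W →ₗ[F] Dual F W)) :=
          (LinearEquiv.finrank_map_eq T _).symm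
      _ ≤ _ := Submodule.finrank_mono hle
  -- many transvections at every point
  obtain ⟨P⟩ : Nonempty (Sylow p L) := inferInstance
  have hPd : ∀ k, p ^ k ∣ Nat.card L → p ^ k ≤ Nat.card P := fun k hk =>
    Nat.le_of_dvd Nat.card_pos (P.pow_dvd_card_of_pow_dvd_card hk)
  obtain ⟨v₁, hv₁, hP1⟩ := hbound P
  have hD : ∀ v : W, v ≠ 0 → q ≤ Nat.card (D v) := by
    intro v hv
    have h1 : q ^ 4 ≤ Nat.card P := by
      rw [hm, ← pow_mul] at hdiv ⊢
      exact hPd _ hdiv
    have h2 : q ^ 3 * q ≤ q ^ 3 * Nat.card (D v₁) := by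
      rw [← pow_succ]; exact h1.trans hP1
    exact (Nat.le_of_mul_le_mul_left h2 (pow_pos (by omega) _)).trans (hcard v₁ v hv₁ hv)
  have haxis : ∀ v : W, v ≠ 0 → ∃ φ : Dual F W, φ ≠ 0 ∧ InT L v φ := by
    intro v hv
    by_contra hno
    push Not at hno
    have hsub : Subsingleton (D v) := ⟨fun a b => Subtype.ext <| by
        rw [show a.1 = 0 by by_contra h; exact hno a.1 h a.2, show b.1 = 0 by by_contra h; exact hno b.1 h b.2]⟩
    have : Nat.card (D v) ≤ 1 := Finite.card_le_one_iff_subsingleton.mpr hsub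
    have := hD v hv
    omega
  have hcentre : ∀ ψ : Dual F W, ψ ≠ 0 → ∃ w : W, w ≠ 0 ∧ InT L w ψ := by
    intro ψ hψ
    obtain ⟨φ, hφ, hT⟩ := haxis v₀ hv₀
    obtain ⟨g, hg, c, hc, hgc⟩ := hhyp φ ψ hφ hψ
    have h := hT.conj (inv_mem hg)
    have e : φ.comp (g⁻¹).symm.toLinearMap = c • ψ := hgc
    rw [e, ← inT_smul hc] at h
    exact ⟨_, smul_ne_zero hc fun e => hv₀ ((g⁻¹).map_eq_zero_iff.mp e), h⟩
  have hstar : ∀ (v w : W) (ψ : Dual F W), InT L w ψ → ψ v = 0 → ψ ∈ E v ∨ ∀ φ ∈ E v, φ w = 0 := by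
    intro v w ψ hw hψv
    by_cases h : ∃ φ, InT L v φ ∧ φ w ≠ 0
    · obtain ⟨φ, hφ, hne⟩ := h
      left
      have h1 : φ w • ψ ∈ E v := Submodule.subset_span (hφ.rule hw hψv)
      simpa [smul_smul, inv_mul_cancel₀ hne] using (E v).smul_mem (φ w)⁻¹ h1
    · push Not at h
      right
      intro φ hφ
      refine Submodule.span_induction (fun x hx => h x hx) (by simp)
        (fun x y _ _ hx hy => by simp [hx, hy]) (fun a x _ hx => by simp [hx]) hφ
  have hEann : ∀ v : W, E v ≤ (F ∙ v).dualAnnihilator := fun v => Submodule.span_le.mpr fun φ hφ =>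
    (Submodule.mem_dualAnnihilator φ).mpr fun x hx => by
      obtain ⟨c, rfl⟩ := Submodule.mem_span_singleton.mp hx
      rw [map_smul, hφ.axis, smul_zero]
  have hann : ∀ U : Submodule F W, finrank F U.dualAnnihilator + finrank F U = 4 := fun U => by
    have := Subspace.finrank_add_finrank_dualAnnihilator_eq U
    omega
  have hE1 : ∀ v : W, v ≠ 0 → 1 ≤ finrank F (E v) ∧ finrank F (E v) ≤ 3 := by
    intro v hv
    obtain ⟨φ, hφ, hT⟩ := haxis v hv
    refine ⟨Submodule.one_le_finrank_iff.mpr fun e => hφ ?_, ?_⟩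
    · have hmem : φ ∈ E v := Submodule.subset_span hT
      rw [e] at hmem
      exact (Submodule.mem_bot F).mp hmem
    · have h1 := Submodule.finrank_mono (hEann v)
      have h2 := hann (F ∙ v)
      rw [finrank_span_singleton hv] at h2
      omega
  obtain ⟨hlo, hhi⟩ := hE1 v₀ hv₀
  have hconst : ∀ v : W, v ≠ 0 → finrank F (E v) = finrank F (E v₀) := fun v hv =>
    le_antisymm (hrank v v₀ hv hv₀) (hrank v₀ v hv₀ hv)
  rcases (show finrank F (E v₀) = 1 ∨ finrank F (E v₀) = 2 ∨ finrank F (E v₀) = 3 by omega) with h | h | h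
  · -- a null polarity
    right
    have hgen : ∀ v : W, v ≠ 0 → ∃ a : Dual F W, a ≠ 0 ∧ E v = F ∙ a := by
      intro v hv
      obtain ⟨φ, hφ, hT⟩ := haxis v hv
      refine ⟨φ, hφ, ?_⟩
      have hle : F ∙ φ ≤ E v := (Submodule.span_singleton_le_iff_mem φ (E v)).mpr (Submodule.subset_span hT)
      symm
      refine Submodule.eq_of_le_of_finrank_eq hle ?_
      rw [finrank_span_singleton hφ, hconst v hv, h]
    let α : W → Dual F W := fun v => if hv : v = 0 then 0 else (hgen v hv).choose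
    have hα : ∀ v : W, v ≠ 0 → α v ≠ 0 ∧ E v = F ∙ α v := fun v hv => by
      simp only [α, dif_neg hv]; exact (hgen v hv).choose_spec
    have hT : ∀ (v : W) (c : F), InT L v (c • α v) := by
      intro v c
      rcases eq_or_ne v 0 with rfl | hv
      · exact InT.zero_left _
      have hsub : ∀ φ : D v, ∃ c : F, c • α v = φ.1 := fun φ =>
        Submodule.mem_span_singleton.mp ((hα v hv).2 ▸ (Submodule.subset_span φ.2 : φ.1 ∈ E v))
      choose k hk using hsub
      have hinj : Function.Injective k := fun a b e => Subtype.ext (by rw [← hk a, ← hk b, e])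
      have hsurj := ((Nat.bijective_iff_injective_and_card k).mpr ⟨hinj, le_antisymm
        (Nat.card_le_card_of_injective k hinj) (by rw [Nat.card_eq_fintype_card]; exact hD v hv)⟩).2
      obtain ⟨φ, rfl⟩ := hsurj c
      rw [hk]; exact φ.2
    refine ⟨α, fun v hv => (hα v hv).1, hT, fun v w hvw => ?_, fun p' hp' hchar' hdvd => ?_⟩
    · rcases eq_or_ne v 0 with rfl | hv
      · exact map_zero _
      rcases eq_or_ne w 0 with rfl | hw
      · simp [α]
      have h1 : InT L v (α v) := by simpa using hT v 1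
      rcases hstar w v _ h1 hvw with h2 | h2
      · rw [(hα w hw).2] at h2
        obtain ⟨c, hc⟩ := Submodule.mem_span_singleton.mp h2
        have hc0 : c ≠ 0 := fun e => (hα v hv).1 (by rw [← hc, e, zero_smul])
        have := h1.axis
        rw [← hc, LinearMap.smul_apply, smul_eq_mul] at this
        exact (mul_eq_zero.mp this).resolve_left hc0
      · exact h2 _ ((hα w hw).2 ▸ Submodule.mem_span_singleton_self _)
    · obtain rfl : p' = p := CharP.eq F hchar' hchar
      rw [hm, ← pow_mul, ← pow_succ'] at hdvd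
      have h1 := hPd _ hdvd
      have h2 : Nat.card (D v₁) ≤ q := by
        rw [hqdef, ← Nat.card_eq_fintype_card]
        refine le_trans (Nat.card_le_card_of_injective
          (fun φ : D v₁ => (⟨φ.1, Submodule.subset_span φ.2⟩ : E v₁)) fun a b e =>
            Subtype.ext (congrArg Subtype.val e :)) ?_
        rw [Module.natCard_eq_pow_finrank (K := F) (V := E v₁), hconst v₁ hv₁, h, pow_one]
      have h3 : p' ^ ((m : ℕ) * 4 + 1) ≤ p' ^ ((m : ℕ) * 4) := by
        calc _ ≤ Nat.card P := h1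
          _ ≤ q ^ 3 * q := hP1.trans (Nat.mul_le_mul_left _ h2)
          _ = _ := by rw [← pow_succ, hm, ← pow_mul]
      exact absurd h3 (not_le.mpr (Nat.pow_lt_pow_right hp.one_lt (by omega)))
  · -- two-dimensional spans do not occur
    exfalso
    have hkey : ∀ (ψ : Dual F W) (w v : W), InT L w ψ → w ≠ 0 → v ∉ F ∙ w → ψ v = 0 → ψ ∈ E v := by
      intro ψ w v hw hw0 hvw hψv
      rcases hstar v w ψ hw hψv with h2 | h2
      · exact h2
      have hv : v ≠ 0 := fun e => hvw (e ▸ zero_mem _)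
      let U := F ∙ v ⊔ F ∙ w
      have hU : finrank F U = 2 := by
        have h1 : (F ∙ v) ⊓ (F ∙ w) = ⊥ := by
          rw [eq_bot_iff]
          rintro y ⟨hy1, hy2⟩
          obtain ⟨a, rfl⟩ := Submodule.mem_span_singleton.mp hy1
          rcases eq_or_ne a 0 with rfl | ha
          · simp
          · exact absurd (by simpa [smul_smul, inv_mul_cancel₀ ha] using (F ∙ w).smul_mem a⁻¹ hy2) hvw
        have h3 := Submodule.finrank_sup_add_finrank_inf_eq (F ∙ v) (F ∙ w)
        rw [h1, finrank_bot, finrank_span_singleton hv, finrank_span_singleton hw0] at h3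
        omega
      have hkill : ∀ φ : Dual F W, φ v = 0 → φ w = 0 → φ ∈ U.dualAnnihilator := fun φ h1 h2 =>
        (Submodule.mem_dualAnnihilator φ).mpr fun y hy => by
          obtain ⟨a, ha, b, hb, rfl⟩ := Submodule.mem_sup.mp hy
          obtain ⟨ca, rfl⟩ := Submodule.mem_span_singleton.mp ha
          obtain ⟨cb, rfl⟩ := Submodule.mem_span_singleton.mp hb
          simp [h1, h2]
      have hle : E v ≤ U.dualAnnihilator := fun φ hφ =>
        hkill φ ((Submodule.mem_dualAnnihilator φ).mp (hEann v hφ) v (Submodule.mem_span_singleton_self v)) (h2 φ hφ)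
      have heq : E v = U.dualAnnihilator := Submodule.eq_of_le_of_finrank_eq hle (by
        have := hann U
        rw [hconst v hv, h]
        omega)
      rw [heq]
      exact hkill ψ hψv hw.axis
    obtain ⟨N, hN⟩ : ∃ N, Nat.card {v : W // v ≠ 0} = N := ⟨_, rfl⟩
    have hN0 : 0 < N := hN ▸ (@Nat.card_pos _ ⟨⟨v₀, hv₀⟩⟩ _)
    have hN' : Nat.card {ψ : Dual F W // ψ ≠ 0} = N := by
      rw [← hN, Nat.card_eq_fintype_card, Nat.card_eq_fintype_card, Fintype.card_subtype_compl,
        Fintype.card_subtype_compl, Fintype.card_subtype_eq, Fintype.card_subtype_eq,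
        Module.card_eq_pow_finrank (K := F) (V := Dual F W), Module.card_eq_pow_finrank (K := F) (V := W),
        Subspace.dual_finrank_eq]
    let R := Σ v : {v : W // v ≠ 0}, {ψ : Dual F W // ψ ∈ E v.1 ∧ ψ ≠ 0}
    have hupper : Nat.card R = N * (q ^ 2 - 1) := by
      rw [Nat.card_sigma, Finset.sum_const_nat (m := q ^ 2 - 1), Finset.card_univ, ← Nat.card_eq_fintype_card, hN]
      intro v _
      rw [Nat.card_congr (Equiv.subtypeSubtypeEquivSubtypeInter (fun ψ => ψ ∈ E v.1) (fun ψ => ψ ≠ 0)).symm,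
        Nat.card_eq_fintype_card, Fintype.card_subtype_compl]
      have h1 : Fintype.card {x : {ψ : Dual F W // ψ ∈ E v.1} // x.1 = 0} = 1 := by
        rw [Fintype.card_eq_one_iff]
        exact ⟨⟨⟨0, zero_mem _⟩, rfl⟩, fun x => Subtype.ext (Subtype.ext x.2)⟩
      rw [h1, ← Nat.card_eq_fintype_card, Module.natCard_eq_pow_finrank (K := F) (V := E v.1),
        Nat.card_eq_fintype_card, hconst v.1 v.2, h]
    have hlower : N * (q ^ 3 - q) ≤ Nat.card R := by
      let R' := Σ ψ : {ψ : Dual F W // ψ ≠ 0}, {v : W // ψ.1 ∈ E v ∧ v ≠ 0}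
      have e : Nat.card R = Nat.card R' := Nat.card_congr
        { toFun := fun z => ⟨⟨z.2.1, z.2.2.2⟩, z.1.1, z.2.2.1, z.1.2⟩
          invFun := fun z => ⟨⟨z.2.1, z.2.2.2⟩, z.1.1, z.2.2.1, z.1.2⟩
          left_inv := fun _ => rfl
          right_inv := fun _ => rfl }
      rw [e, Nat.card_sigma, ← hN', Nat.card_eq_fintype_card, ← Finset.card_univ, ← smul_eq_mul]
      refine Finset.card_nsmul_le_sum _ _ _ fun ψ _ => ?_
      obtain ⟨w, hw, hwT⟩ := hcentre ψ.1 ψ.2
      have hK := Dual.finrank_ker_add_one_of_ne_zero ψ.2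
      rw [hW] at hK
      have hKc : Nat.card (LinearMap.ker ψ.1) = q ^ 3 := by
        rw [Module.natCard_eq_pow_finrank (K := F), Nat.card_eq_fintype_card]
        congr 1; omega
      have hsub : Nat.card {x : LinearMap.ker ψ.1 // (x : W) ∈ F ∙ w} ≤ q := by
        refine le_trans (Nat.card_le_card_of_injective (fun x => (⟨x.1.1, x.2⟩ : (F ∙ w : Submodule F W)))
          fun a b e => Subtype.ext (Subtype.ext (congrArg Subtype.val e :))) ?_
        rw [Module.natCard_eq_pow_finrank (K := F), finrank_span_singleton hw, pow_one, Nat.card_eq_fintype_card]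
      calc q ^ 3 - q ≤ Nat.card {x : LinearMap.ker ψ.1 // ¬ (x : W) ∈ F ∙ w} := by
            rw [Nat.card_eq_fintype_card, Fintype.card_subtype_compl, ← Nat.card_eq_fintype_card,
              ← Nat.card_eq_fintype_card, hKc]
            omega
        _ ≤ Nat.card {v : W // ψ.1 ∈ E v ∧ v ≠ 0} := Nat.card_le_card_of_injective (fun x => ⟨x.1.1,
            hkey ψ.1 w x.1.1 hwT hw x.2 (LinearMap.mem_ker.mp x.1.2), fun e => x.2 (e ▸ zero_mem _)⟩)
            fun a b e => Subtype.ext (Subtype.ext (congrArg Subtype.val e :))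
    rw [hupper] at hlower
    have h1 := Nat.le_of_mul_le_mul_left hlower hN0
    have h2 : q ^ 3 = q * (q * q) := by ring
    have h3 : q ^ 2 = q * q := by ring
    have h4 : 2 * (q * q) ≤ q * (q * q) := Nat.mul_le_mul_right _ hq
    have h5 : 2 * q ≤ q * q := Nat.mul_le_mul_right _ hq
    omega
  · -- every incident pair
    left
    refine all_transvections (by omega) fun v ψ hv hψ hψv => ?_
    obtain ⟨w, hw, hwT⟩ := hcentre ψ hψ
    by_cases hne : ∃ φ, InT L v φ ∧ φ w ≠ 0
    · obtain ⟨φ, hφ, hφw⟩ := hne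
      exact ⟨φ w, hφw, hφ.rule hwT hψv⟩
    push Not at hne
    have heq : E v = (F ∙ v).dualAnnihilator := Submodule.eq_of_le_of_finrank_eq (hEann v) (by
      have := hann (F ∙ v)
      rw [finrank_span_singleton hv] at this
      rw [hconst v hv, h]
      omega)
    have hwv : w ∈ F ∙ v := by
      rw [← Subspace.dualAnnihilator_dualCoannihilator_eq (W := F ∙ v), Submodule.mem_dualCoannihilator, ← heq]
      intro φ hφ
      refine Submodule.span_induction (fun x hx => hne x hx) (by simp)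
        (fun x y _ _ hx hy => by simp [hx, hy]) (fun a x _ hx => by simp [hx]) hφ
    obtain ⟨c, rfl⟩ := Submodule.mem_span_singleton.mp hwv
    have hc : c ≠ 0 := fun e => hw (by rw [e, zero_smul])
    exact ⟨c, hc, (inT_smul hc).mp hwT⟩

end Cfsg.Agent.Lie.SingerFive
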