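import Mathlib

/-!
# Transvections in a linear group

The set of transvections of a finite linear group is closed under two conjugation rules; if every incident
point-hyperplane pair carries one of them, all transvections belong to the group.
-/

set_option autoImplicit false

namespace Cfsg.Agent.Lie.SingerFive

open Module

universe u w

variable {F : Type u} [Field F] {W : Type w} [AddCommGroup W] [Module F W]

/-- The transvection `x ↦ x + φ x • v` lies in `L`. -/
def InT (L : Subgroup (W ≃ₗ[F] W)) (v : W) (φ : Dual F W) : Prop :=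
  φ v = 0 ∧ ∃ g ∈ L, ∀ x, g x = x + φ x • v

variable {L : Subgroup (W ≃ₗ[F] W)}

theorem InT.axis {v : W} {φ : Dual F W} (h : InT L v φ) : φ v = 0 := h.1

theorem InT.zero_right (v : W) : InT L v (0 : Dual F W) :=
  ⟨rfl, 1, one_mem L, fun x => by simp⟩

theorem InT.zero_left (φ : Dual F W) : InT L (0 : W) φ :=
  ⟨map_zero φ, 1, one_mem L, fun x => by simp⟩

theorem InT.add_right {v : W} {φ φ' : Dual F W} (h : InT L v φ) (h' : InT L v φ') :
    InT L v (φ + φ') := by
  obtain ⟨h0, g, hg, hgx⟩ := h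
  obtain ⟨h0', g', hg', hgx'⟩ := h'
  refine ⟨by rw [LinearMap.add_apply, h0, h0', add_zero], g * g', mul_mem hg hg', fun x => ?_⟩
  rw [LinearEquiv.mul_apply, hgx', hgx, map_add, map_smul, h0, smul_zero, add_zero, LinearMap.add_apply,
    add_smul]
  abel

theorem InT.add_left {v v' : W} {φ : Dual F W} (h : InT L v φ) (h' : InT L v' φ) :
    InT L (v + v') φ := by
  obtain ⟨h0, g, hg, hgx⟩ := h
  obtain ⟨h0', g', hg', hgx'⟩ := h'
  refine ⟨by rw [map_add, h0, h0', add_zero], g * g', mul_mem hg hg', fun x => ?_⟩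
  rw [LinearEquiv.mul_apply, hgx', hgx, map_add, map_smul, h0', smul_zero, add_zero, smul_add]
  abel

theorem InT.neg_right {v : W} {φ : Dual F W} (h : InT L v φ) : InT L v (-φ) := by
  obtain ⟨h0, g, hg, hgx⟩ := h
  refine ⟨by rw [LinearMap.neg_apply, h0, neg_zero], g⁻¹, inv_mem hg, fun x => g.injective ?_⟩
  have e : g (g⁻¹ x) = x := g.apply_symm_apply x
  rw [e, hgx, map_add, LinearMap.neg_apply, neg_smul, map_neg, map_smul, h0, smul_zero, neg_zero, add_zero]
  abel

theorem inT_smul {v : W} {φ : Dual F W} {c : F} (hc : c ≠ 0) :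
    InT L (c • v) φ ↔ InT L v (c • φ) := by
  have hv : φ (c • v) = 0 ↔ (c • φ) v = 0 := by simp
  constructor <;> rintro ⟨h0, g, hg, hgx⟩
  · exact ⟨hv.mp h0, g, hg, fun x => by rw [hgx, LinearMap.smul_apply, smul_eq_mul, smul_smul, mul_comm]⟩
  · exact ⟨hv.mpr h0, g, hg, fun x => by rw [hgx, LinearMap.smul_apply, smul_eq_mul, smul_smul, mul_comm]⟩

theorem InT.conj {v : W} {φ : Dual F W} (h : InT L v φ) {g : W ≃ₗ[F] W} (hg : g ∈ L) :
    InT L (g v) (φ.comp g.symm.toLinearMap) := by
  obtain ⟨h0, t, ht, htx⟩ := h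
  refine ⟨by simpa using h0, g * t * g⁻¹, mul_mem (mul_mem hg ht) (inv_mem hg), fun x => ?_⟩
  have e : (g * t * g⁻¹) x = g (t (g.symm x)) := rfl
  rw [e, htx, map_add, map_smul, g.apply_symm_apply]
  rfl

/-- Conjugating `(v, φ)` by `(w, ψ)` when `w`'s axis passes through `v`. -/
theorem InT.rule {v w : W} {φ ψ : Dual F W} (h : InT L v φ) (h' : InT L w ψ) (hv : ψ v = 0) :
    InT L v (φ w • ψ) := by
  obtain ⟨hw, s, hs, hsx⟩ := h'
  have hsv : s v = v := by rw [hsx, hv, zero_smul, add_zero]
  have h2 := h.conj hs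
  rw [hsv] at h2
  have e : φ.comp s.symm.toLinearMap = φ - φ w • ψ := LinearMap.ext fun x => by
    obtain ⟨y, rfl⟩ : ∃ y, s y = x := ⟨_, s.apply_symm_apply x⟩
    simp only [LinearMap.comp_apply, LinearEquiv.coe_coe, LinearEquiv.symm_apply_apply,
      LinearMap.sub_apply, LinearMap.smul_apply, smul_eq_mul]
    rw [hsx, map_add, map_smul, map_add, map_smul, hw]
    simp [smul_eq_mul, mul_comm]
  rw [e] at h2
  have := h.add_right h2.neg_right
  rwa [neg_sub, add_sub_cancel] at this

variable (L) in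
/-- The centres with axis `φ`. -/
def centres (φ : Dual F W) : AddSubgroup W where
  carrier := {w | InT L w φ}
  zero_mem' := InT.zero_left φ
  add_mem' h h' := h.add_left h'
  neg_mem' {v} h := by
    show InT L (-v) φ
    rw [← neg_one_smul F, inT_smul (neg_ne_zero.mpr one_ne_zero)]
    convert h.neg_right using 1
    exact LinearMap.ext fun x => by simp

theorem mem_centres {φ : Dual F W} {w : W} : w ∈ centres L φ ↔ InT L w φ := Iff.rfl

theorem card_add_ker [Finite W] (X : AddSubgroup W) (φ : Dual F W) :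
    Nat.card {x : X // φ x = 0} * Nat.card (X.map φ.toAddMonoidHom) = Nat.card X := by
  let f : X →+ F := φ.toAddMonoidHom.comp X.subtype
  have h := AddSubgroup.card_eq_card_quotient_mul_card_addSubgroup f.ker
  rw [Nat.card_congr (QuotientAddGroup.quotientKerEquivRange f).toEquiv] at h
  have hr : f.range = X.map φ.toAddMonoidHom := by
    ext y
    simp only [AddMonoidHom.mem_range, AddSubgroup.mem_map]
    exact ⟨fun ⟨x, hx⟩ => ⟨x, x.2, hx⟩, fun ⟨x, hx, e⟩ => ⟨⟨x, hx⟩, e⟩⟩
  rw [hr] at h
  rw [h, mul_comm]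
  congr 1

theorem card_dual_kernel [Fintype F] [Finite W] (S : Submodule F W) :
    Nat.card {φ : Dual F W // ∀ x ∈ S, φ x = 0} =
      Fintype.card F ^ (finrank F W - finrank F S) := by
  rw [Nat.card_congr (Equiv.subtypeEquivRight fun φ => (Submodule.mem_dualAnnihilator φ).symm),
    Module.natCard_eq_pow_finrank (K := F) (V := S.dualAnnihilator), Nat.card_eq_fintype_card]
  congr 1
  have := Subspace.finrank_add_finrank_dualAnnihilator_eq S
  omega

theorem one_line_of_proper {q m : ℕ} (hd : m ∣ q) (h : m ≠ q) (hq : q ≠ 0) : 2 * m ≤ q := by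
  obtain ⟨k, rfl⟩ := hd
  rcases k with _ | _ | k
  · simp at hq
  · simp at h
  · calc 2 * m = m * 2 := mul_comm _ _
      _ ≤ _ := Nat.mul_le_mul_left m (by omega)

/-- If every incident pair carries a transvection of `L`, then `L` contains all transvections. -/
theorem all_transvections [Fintype F] [Finite W] (hd : 4 ≤ finrank F W)
    (hex : ∀ (v : W) (φ : Dual F W), v ≠ 0 → φ ≠ 0 → φ v = 0 → ∃ c : F, c ≠ 0 ∧ InT L v (c • φ)) :
    ∀ (v : W) (φ : Dual F W), φ v = 0 → InT L v φ := by
  classical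
  have := Fintype.ofFinite W
  intro v ψ hvψ
  rcases eq_or_ne v 0 with rfl | hv
  · exact InT.zero_left ψ
  rcases eq_or_ne ψ 0 with rfl | hψ
  · exact InT.zero_right v
  set q := Fintype.card F with hqdef
  have hq : 2 ≤ q := Fintype.one_lt_card
  set d := finrank F W with hddef
  let X := centres L ψ
  have hXψ : ∀ x ∈ X, ψ x = 0 := fun x hx => hx.axis
  suffices hfull : ∃ φ : Dual F W, φ v = 0 ∧ φ ≠ 0 ∧ X.map φ.toAddMonoidHom = ⊤ by
    obtain ⟨φ, hφv, hφ, htop⟩ := hfull
    obtain ⟨e, he, heT⟩ := hex v φ hv hφ hφv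
    obtain ⟨x, hx, hxe⟩ := AddSubgroup.mem_map.mp
      (show (e⁻¹ : F) ∈ X.map φ.toAddMonoidHom by rw [htop]; trivial)
    have := heT.rule (mem_centres.mp hx) hvψ
    rw [LinearMap.smul_apply, show φ x = e⁻¹ from hxe, smul_eq_mul, mul_inv_cancel₀ he, one_smul] at this
    exact this
  by_contra hno
  push Not at hno
  -- the size of `X` modulo the line of `v`
  let S := F ∙ v
  have hXZ : q * Nat.card {x : X // (x : W) ∈ S} ≤ Nat.card X := by
    let f : X →+ W ⧸ S := S.mkQ.toAddMonoidHom.comp X.subtype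
    have h := AddSubgroup.card_eq_card_quotient_mul_card_addSubgroup f.ker
    rw [Nat.card_congr (QuotientAddGroup.quotientKerEquivRange f).toEquiv] at h
    have hk : Nat.card f.ker = Nat.card {x : X // (x : W) ∈ S} :=
      Nat.card_congr (Equiv.subtypeEquivRight fun x => by
        simp only [AddMonoidHom.mem_ker, f, AddMonoidHom.comp_apply, AddSubgroup.coe_subtype,
          LinearMap.toAddMonoidHom_coe, Submodule.mkQ_apply, Submodule.Quotient.mk_eq_zero])
    rw [h, hk]
    refine Nat.mul_le_mul_right _ ?_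
    -- `q` different images
    have hS1 : finrank F S = 1 := finrank_span_singleton hv
    have hK : finrank F (LinearMap.ker ψ) + 1 = d := Dual.finrank_ker_add_one_of_ne_zero hψ
    have hSK : S ≤ LinearMap.ker ψ := (Submodule.span_singleton_le_iff_mem _ _).mpr hvψ
    obtain ⟨u₁, hu₁, hu₁S⟩ := SetLike.exists_of_lt (lt_of_le_of_ne hSK fun e => by rw [e] at hS1; omega)
    have h2 : S ⊔ F ∙ u₁ < LinearMap.ker ψ := by
      refine lt_of_le_of_ne (sup_le hSK ((Submodule.span_singleton_le_iff_mem _ _).mpr hu₁)) fun e => ?_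
      have h3 := Submodule.finrank_add_le_finrank_add_finrank S (F ∙ u₁)
      have h4 : finrank F (F ∙ u₁) = 1 := finrank_span_singleton fun e => hu₁S (e ▸ zero_mem S)
      rw [e] at h3
      omega
    obtain ⟨u₂, hu₂, hu₂S⟩ := SetLike.exists_of_lt h2
    have hlin : ∀ a b : F, a • u₁ + b • u₂ ∈ S → a = 0 ∧ b = 0 := by
      intro a b hab
      have hb : b = 0 := by
        by_contra hb
        refine hu₂S ?_
        have e : u₂ = b⁻¹ • (a • u₁ + b • u₂) - (b⁻¹ * a) • u₁ := by
          rw [smul_add, smul_smul, smul_smul, inv_mul_cancel₀ hb, one_smul]; abel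
        rw [e]
        exact sub_mem (Submodule.mem_sup_left (S.smul_mem _ hab))
          (Submodule.mem_sup_right (Submodule.smul_mem _ _ (Submodule.mem_span_singleton_self _)))
      subst hb
      rw [zero_smul, add_zero] at hab
      refine ⟨?_, rfl⟩
      by_contra ha
      exact hu₁S (by simpa [smul_smul, inv_mul_cancel₀ ha] using S.smul_mem a⁻¹ hab)
    have hc : ∀ t : F, ∃ c : F, c ≠ 0 ∧ c • (u₁ + t • u₂) ∈ X := by
      intro t
      obtain ⟨c, hc, hcT⟩ := hex (u₁ + t • u₂) ψ
        (fun e => one_ne_zero (hlin 1 t (by rw [one_smul, e]; exact zero_mem S)).1) hψ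
        (by rw [map_add, map_smul, LinearMap.mem_ker.mp hu₁, LinearMap.mem_ker.mp hu₂]; simp)
      exact ⟨c, hc, mem_centres.mpr ((inT_smul hc).mpr hcT)⟩
    choose c hc hcX using hc
    rw [hqdef, ← Nat.card_eq_fintype_card]
    refine Nat.card_le_card_of_injective
      (fun t => (⟨f ⟨_, hcX t⟩, ⟨_, rfl⟩⟩ : f.range)) fun t t' htt => ?_
    have e : c t • (u₁ + t • u₂) - c t' • (u₁ + t' • u₂) ∈ S := by
      have := congrArg Subtype.val htt
      exact (Submodule.Quotient.eq S).mp this
    obtain ⟨e1, e2⟩ := hlin (c t - c t') (c t * t - c t' * t') (by convert e using 1; module)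
    rw [sub_eq_zero] at e1 e2
    rw [← e1] at e2
    exact mul_left_cancel₀ (hc t) e2
  -- double count
  let A := {φ : Dual F W // φ v = 0}
  have : Finite (Dual F W) := Module.finite_of_finite F
  let _ : Fintype (Dual F W) := Fintype.ofFinite _
  have hA : Nat.card A = q ^ (d - 1) := by
    rw [Nat.card_congr (Equiv.subtypeEquivRight fun φ : Dual F W =>
      (⟨fun h x hx => by obtain ⟨c, rfl⟩ := Submodule.mem_span_singleton.mp hx; simp [h],
        fun h => h v (Submodule.mem_span_singleton_self v)⟩ : φ v = 0 ↔ ∀ x ∈ S, φ x = 0)),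
      card_dual_kernel, finrank_span_singleton hv]
  have hAx : ∀ x : X, Nat.card {φ : A // φ.1 x = 0} =
      if (x : W) ∈ S then q ^ (d - 1) else q ^ (d - 2) := by
    intro x
    split_ifs with hx
    · rw [← hA]
      refine Nat.card_congr (Equiv.subtypeUnivEquiv fun φ => ?_)
      obtain ⟨c, hc⟩ := Submodule.mem_span_singleton.mp hx
      rw [← hc, map_smul, φ.2, smul_zero]
    · let S2 := S ⊔ F ∙ (x : W)
      have e : Nat.card {φ : A // φ.1 x = 0} = Nat.card {φ : Dual F W // ∀ y ∈ S2, φ y = 0} :=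
        Nat.card_congr ((Equiv.subtypeSubtypeEquivSubtypeInter _ (fun φ : Dual F W => φ x = 0)).trans
          (Equiv.subtypeEquivRight fun φ => ⟨fun h y hy => by
            obtain ⟨a, ha, b, hb, rfl⟩ := Submodule.mem_sup.mp hy
            obtain ⟨ca, rfl⟩ := Submodule.mem_span_singleton.mp ha
            obtain ⟨cb, rfl⟩ := Submodule.mem_span_singleton.mp hb
            simp [h.1, h.2],
            fun h => ⟨h v (Submodule.mem_sup_left (Submodule.mem_span_singleton_self v)),
              h x (Submodule.mem_sup_right (Submodule.mem_span_singleton_self _))⟩⟩))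
      rw [e, card_dual_kernel]
      congr 2
      have hx0 : (x : W) ≠ 0 := fun e => hx (e ▸ zero_mem S)
      have h1 : S ⊓ F ∙ (x : W) = ⊥ := by
        rw [eq_bot_iff]
        rintro y ⟨hy1, hy2⟩
        obtain ⟨b, rfl⟩ := Submodule.mem_span_singleton.mp hy2
        rcases eq_or_ne b 0 with rfl | hb
        · simp
        · exact absurd (by simpa [smul_smul, inv_mul_cancel₀ hb] using S.smul_mem b⁻¹ hy1) hx
      have h2 := Submodule.finrank_sup_add_finrank_inf_eq S (F ∙ (x : W))
      rw [h1, finrank_bot, finrank_span_singleton hv, finrank_span_singleton hx0] at h2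
      omega
  have hlow : ∀ φ : A, 2 * Nat.card X ≤ q * Nat.card {x : X // φ.1 x = 0} := by
    intro φ
    rcases eq_or_ne φ.1 0 with h0 | h0
    · rw [Nat.card_congr (Equiv.subtypeUnivEquiv fun x : X => by rw [h0]; rfl)]
      exact Nat.mul_le_mul_right _ hq
    · have h1 := card_add_ker X φ.1
      have hdvd : Nat.card (X.map φ.1.toAddMonoidHom) ∣ q := by
        rw [hqdef, ← Nat.card_eq_fintype_card]
        exact AddSubgroup.card_addSubgroup_dvd_card _
      have hne : Nat.card (X.map φ.1.toAddMonoidHom) ≠ q := fun e =>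
        hno φ.1 φ.2 h0 (AddSubgroup.eq_top_of_card_eq _ (by rw [e, hqdef, Nat.card_eq_fintype_card]))
      have h2 := one_line_of_proper hdvd hne (by omega)
      rw [← h1]
      calc 2 * (_ * _) = _ * (2 * _) := by ring
        _ ≤ Nat.card {x : X // φ.1 x = 0} * q := Nat.mul_le_mul_left _ h2
        _ = _ := mul_comm _ _
  -- functionals proportional to `ψ` vanish on all of `X`
  have hfull : ∀ φ : A, (∃ c : F, φ.1 = c • ψ) → Nat.card {x : X // φ.1 x = 0} = Nat.card X := by
    rintro φ ⟨c, hc⟩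
    exact Nat.card_congr (Equiv.subtypeUnivEquiv fun x => by rw [hc, LinearMap.smul_apply, hXψ x x.2, smul_zero])
  have hsum : ∑ φ : A, Nat.card {x : X // φ.1 x = 0} = ∑ x : X, Nat.card {φ : A // φ.1 x = 0} := by
    rw [← Nat.card_sigma, ← Nat.card_sigma]
    exact Nat.card_congr
      { toFun := fun z => ⟨z.2.1, z.1, z.2.2⟩
        invFun := fun z => ⟨z.2.1, z.1, z.2.2⟩
        left_inv := fun _ => rfl
        right_inv := fun _ => rfl }
  obtain ⟨N, hN⟩ : ∃ N, Nat.card X = N := ⟨_, rfl⟩
  obtain ⟨z, hz⟩ : ∃ z, Nat.card {x : X // (x : W) ∈ S} = z := ⟨_, rfl⟩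
  have hzN : z ≤ N := by
    rw [← hz, ← hN]; exact Nat.card_le_card_of_injective _ Subtype.val_injective
  have hupper : ∑ x : X, Nat.card {φ : A // φ.1 x = 0} = z * q ^ (d - 1) + (N - z) * q ^ (d - 2) := by
    simp only [hAx]
    rw [Finset.sum_ite, Finset.sum_const, Finset.sum_const, smul_eq_mul, smul_eq_mul]
    have h1 : (Finset.univ.filter fun x : X => (x : W) ∈ S).card = z := by
      rw [← hz, Nat.card_eq_fintype_card, Fintype.card_subtype]
    have h2 : (Finset.univ.filter fun x : X => ¬ (x : W) ∈ S).card = N - z := by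
      rw [Finset.filter_not, Finset.card_sdiff_of_subset (Finset.subset_univ _), h1, Finset.card_univ,
        ← Nat.card_eq_fintype_card, hN]
    rw [h1, h2]
  have hlower : 2 * N * (q ^ (d - 1) - q) + q * (q * N) ≤ q * ∑ φ : A, Nat.card {x : X // φ.1 x = 0} := by
    rw [Finset.mul_sum, ← Finset.sum_filter_add_sum_filter_not Finset.univ (fun φ : A => ∃ c : F, φ.1 = c • ψ),
      add_comm]
    have hcf : (Finset.univ.filter fun φ : A => ∃ c : F, φ.1 = c • ψ).card = q := by
      rw [hqdef, ← Finset.card_univ (α := F),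
        ← Finset.card_image_of_injective (Finset.univ : Finset F)
        (f := fun c => (⟨c • ψ, by simp [hvψ]⟩ : A)) (fun c c' h => smul_left_injective F hψ (congrArg Subtype.val h))]
      congr 1
      ext φ
      simp only [Finset.mem_filter, Finset.mem_univ, true_and, Finset.mem_image]
      exact ⟨fun ⟨c, hc⟩ => ⟨c, Subtype.ext hc.symm⟩, fun ⟨c, hc⟩ => ⟨c, (congrArg Subtype.val hc).symm⟩⟩
    refine add_le_add ?_ ?_
    · rw [Finset.sum_congr rfl (fun φ hφ => by rw [hfull φ (Finset.mem_filter.mp hφ).2, hN]),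
        Finset.sum_const, hcf, smul_eq_mul]
    · refine le_trans (le_of_eq ?_) (Finset.card_nsmul_le_sum _ _ (2 * N) fun φ _ => hN ▸ hlow φ)
      rw [Finset.filter_not, Finset.card_sdiff_of_subset (Finset.subset_univ _), hcf, Finset.card_univ,
        ← Nat.card_eq_fintype_card, hA, smul_eq_mul, mul_comm]
  rw [hsum, hupper] at hlower
  rw [hN, hz] at hXZ
  obtain ⟨k, hk⟩ : ∃ k, d = k + 3 := ⟨d - 3, by omega⟩
  have e1 : d - 1 = k + 2 := by omega
  have e2 : d - 2 = k + 1 := by omega
  rw [e1, e2] at hlower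
  have hqk : q ≤ q ^ (k + 2) := Nat.le_self_pow (by omega) q
  have hN0 : 0 < N := hN ▸ Nat.card_pos
  obtain ⟨r, rfl⟩ : ∃ r, N = z + r := ⟨N - z, by omega⟩
  obtain ⟨T, hT⟩ : ∃ T, q ^ (k + 2) = q + T := ⟨q ^ (k + 2) - q, by omega⟩
  rw [Nat.add_sub_cancel_left, hT, Nat.add_sub_cancel_left] at hlower
  have hT' : q ^ (k + 1) * q = q + T := by rw [← pow_succ, hT]
  nlinarith [hlower, hXZ, hT', Nat.mul_le_mul_left q hq, hN0, Nat.mul_le_mul_left T hXZ]

end Cfsg.Agent.Lie.SingerFive
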